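import Mathlib

/-!
# Global families of sections from a locally uniquely satisfiable condition
-/

set_option autoImplicit false

universe v u w

open CategoryTheory Opposite

namespace Groth.Agent.TorsH1

variable {C : Type u} [Category.{v} C] {J : GrothendieckTopology C}

/-- Two sections agreeing on a covering sieve agree. -/
lemma eq_of_locally {P : Cᵒᵖ ⥤ Type w} (hP : Presieve.IsSheaf J P) {U : C} {S : Sieve U}
    (hS : S ∈ J U) {x y : P.obj (op U)}
    (h : ∀ ⦃V : C⦄ (f : V ⟶ U), S.arrows f → P.map f.op x = P.map f.op y) : x = y :=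
  (hP S hS).isSeparatedFor.ext (fun _ f hf => h f hf)

/-- A condition on sections stable under restriction, local, satisfied by at most one section over
each object and locally satisfiable is satisfied by a unique compatible family. -/
lemma exists_family {P : Cᵒᵖ ⥤ Type w} (hP : Presieve.IsSheaf J P)
    (R : ∀ U : C, P.obj (op U) → Prop)
    (hres : ∀ ⦃U V : C⦄ (f : V ⟶ U) (x : P.obj (op U)), R U x → R V (P.map f.op x))
    (huniq : ∀ (U : C) (x y : P.obj (op U)), R U x → R U y → x = y)
    (hloc : ∀ (U : C) (x : P.obj (op U)) (S : Sieve U), S ∈ J U →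
      (∀ ⦃V : C⦄ (f : V ⟶ U), S.arrows f → R V (P.map f.op x)) → R U x)
    (hex : ∀ U : C, ∃ S : Sieve U, S ∈ J U ∧ ∀ ⦃V : C⦄ (f : V ⟶ U), S.arrows f → ∃ x, R V x) :
    ∃ pt : ∀ U : C, P.obj (op U), (∀ U, R U (pt U)) ∧
      ∀ ⦃U V : C⦄ (f : V ⟶ U), P.map f.op (pt U) = pt V := by
  have key : ∀ U : C, ∃ x, R U x := by
    intro U
    obtain ⟨S, hS, hx⟩ := hex U
    let fam : Presieve.FamilyOfElements P S.arrows := fun V f hf => (hx f hf).choose
    have hfam : fam.Compatible := by
      intro V₁ V₂ W g₁ g₂ f₁ f₂ h₁ h₂ _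
      exact huniq W _ _ (hres g₁ _ (hx f₁ h₁).choose_spec) (hres g₂ _ (hx f₂ h₂).choose_spec)
    refine ⟨(hP S hS).amalgamate fam hfam, hloc U _ S hS fun V f hf => ?_⟩
    rw [(hP S hS).valid_glue hfam f hf]
    exact (hx f hf).choose_spec
  choose pt hpt using key
  exact ⟨pt, hpt, fun U V f => huniq V _ _ (hres f _ (hpt U)) (hpt V)⟩

end Groth.Agent.TorsH1
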