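import Groth.Prelude.Def_Tors
import Groth.Agent.TorsH1.Glue
import Mathlib

/-!
# `H¹` and torsors under an abelian sheaf
-/

set_option autoImplicit false
set_option backward.isDefEq.respectTransparency false
set_option backward.isDefEq.respectTransparency.types false

universe u

open CategoryTheory CategoryTheory.Limits Opposite

namespace Groth.Agent.TorsH1

variable {C : Type u} [SmallCategory C] {J : GrothendieckTopology C}

section sections

variable {F : Sheaf J AddCommGrpCat.{u}}

lemma isSheaf_sect (F : Sheaf J AddCommGrpCat.{u}) :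
    Presieve.IsSheaf J (F.obj ⋙ forget AddCommGrpCat.{u}) :=
  (isSheaf_iff_isSheaf_of_type J _).1
    ((sheafCompose J (forget AddCommGrpCat.{u})).obj F).property

lemma sect_ext (F : Sheaf J AddCommGrpCat.{u}) {U : C} {S : Sieve U} (hS : S ∈ J U)
    {x y : F.obj.obj (op U)}
    (h : ∀ ⦃V : C⦄ (f : V ⟶ U), S.arrows f → F.obj.map f.op x = F.obj.map f.op y) : x = y :=
  eq_of_locally (isSheaf_sect F) hS h

lemma map_map (F : Sheaf J AddCommGrpCat.{u}) {U V W : C} (f : V ⟶ U) (g : W ⟶ V)
    (x : F.obj.obj (op U)) : F.obj.map g.op (F.obj.map f.op x) = F.obj.map (g ≫ f).op x := by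
  rw [op_comp, F.obj.map_comp]
  rfl

lemma app_map {F F' : Sheaf J AddCommGrpCat.{u}} (a : F ⟶ F') {U V : Cᵒᵖ} (f : U ⟶ V)
    (x : F.obj.obj U) : a.hom.app V (F.obj.map f x) = F'.obj.map f (a.hom.app U x) :=
  NatTrans.naturality_apply a.hom f x

/-- A morphism out of the constant sheaf `ℤ` from a compatible family of sections. -/
noncomputable def ofFamily (s : ∀ U : C, F.obj.obj (op U))
    (hs : ∀ ⦃U V : C⦄ (f : V ⟶ U), F.obj.map f.op (s U) = s V) :
    (constantSheaf J AddCommGrpCat.{u}).obj (AddCommGrpCat.of (ULift.{u} ℤ)) ⟶ F :=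
  ((sheafificationAdjunction J AddCommGrpCat.{u}).homEquiv _ F).symm
    { app := fun U => AddCommGrpCat.ofHom
        ((zmultiplesHom _ (s U.unop)).comp AddEquiv.ulift.toAddMonoidHom)
      naturality := fun U V f => by
        ext n
        change (n.down • s V.unop : F.obj.obj V) = F.obj.map f (n.down • s U.unop)
        refine Eq.trans ?_ (map_zsmul (F.obj.map f).hom n.down (s U.unop)).symm
        exact congrArg _ (hs f.unop).symm }

/-- The compatible family of sections of a morphism out of the constant sheaf `ℤ`. -/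
noncomputable def family
    (a : (constantSheaf J AddCommGrpCat.{u}).obj (AddCommGrpCat.of (ULift.{u} ℤ)) ⟶ F)
    (U : C) : F.obj.obj (op U) :=
  (((sheafificationAdjunction J AddCommGrpCat.{u}).homEquiv _ F) a).app (op U)
    (ULift.up (1 : ℤ))

lemma family_map
    (a : (constantSheaf J AddCommGrpCat.{u}).obj (AddCommGrpCat.of (ULift.{u} ℤ)) ⟶ F)
    ⦃U V : C⦄ (f : V ⟶ U) : F.obj.map f.op (family a U) = family a V :=
  (NatTrans.naturality_apply
    (((sheafificationAdjunction J AddCommGrpCat.{u}).homEquiv _ F) a) f.op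
    (ULift.up (1 : ℤ))).symm

lemma family_ofFamily (s : ∀ U : C, F.obj.obj (op U))
    (hs : ∀ ⦃U V : C⦄ (f : V ⟶ U), F.obj.map f.op (s U) = s V) (U : C) :
    family (ofFamily s hs) U = s U := by
  unfold family ofFamily
  rw [Equiv.apply_symm_apply]
  exact one_zsmul (s U)

lemma family_comp {F' : Sheaf J AddCommGrpCat.{u}}
    (a : (constantSheaf J AddCommGrpCat.{u}).obj (AddCommGrpCat.of (ULift.{u} ℤ)) ⟶ F)
    (b : F ⟶ F') (U : C) : family (a ≫ b) U = b.hom.app (op U) (family a U) := by
  unfold family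
  rw [Adjunction.homEquiv_naturality_right]
  rfl

lemma hom_ext_family
    (a b : (constantSheaf J AddCommGrpCat.{u}).obj (AddCommGrpCat.of (ULift.{u} ℤ)) ⟶ F)
    (h : ∀ U, family a U = family b U) : a = b := by
  apply ((sheafificationAdjunction J AddCommGrpCat.{u}).homEquiv _ F).injective
  ext U n
  have key : ∀ c : (constantSheaf J AddCommGrpCat.{u}).obj
      (AddCommGrpCat.of (ULift.{u} ℤ)) ⟶ F,
      (((sheafificationAdjunction J AddCommGrpCat.{u}).homEquiv _ F) c).app U n =
        n.down • family c U.unop := by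
    intro c
    refine Eq.trans (congrArg _ ?_) (map_zsmul
      ((((sheafificationAdjunction J AddCommGrpCat.{u}).homEquiv _ F) c).app U).hom n.down
      (ULift.up (1 : ℤ)))
    apply ULift.ext
    show n.down = n.down • (1 : ℤ)
    simp
  rw [key a, key b, h]

end sections

section exact

variable {S : ShortComplex (Sheaf J AddCommGrpCat.{u})} (hS : S.ShortExact)
include hS

lemma app_injective (U : Cᵒᵖ) : Function.Injective (S.f.hom.app U) := by
  haveI := hS.mono_f
  haveI : Mono ((sheafToPresheaf J AddCommGrpCat.{u} ⋙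
      (evaluation Cᵒᵖ AddCommGrpCat.{u}).obj U).map S.f) := inferInstance
  exact (AddCommGrpCat.mono_iff_injective _).1 this

lemma exists_preimage {U : Cᵒᵖ} (x : S.X₂.obj.obj U) (hx : S.g.hom.app U x = 0) :
    ∃ g : S.X₁.obj.obj U, S.f.hom.app U g = x := by
  haveI := hS.mono_f
  have h := hS.exact.map_of_mono_of_preservesKernel
    (sheafToPresheaf J AddCommGrpCat.{u} ⋙ (evaluation Cᵒᵖ AddCommGrpCat.{u}).obj U)
    inferInstance inferInstance
  exact (ShortComplex.ab_exact_iff _).1 h x hx

lemma locally_lift {U : C} (q : S.X₃.obj.obj (op U)) :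
    ∃ T : Sieve U, T ∈ J U ∧ ∀ ⦃V : C⦄ (f : V ⟶ U), T.arrows f →
      ∃ i : S.X₂.obj.obj (op V), S.g.hom.app (op V) i = S.X₃.obj.map f.op q := by
  haveI := hS.epi_g
  haveI : Sheaf.IsLocallySurjective S.g := (Sheaf.isLocallySurjective_iff_epi' _ S.g).2 inferInstance
  exact ⟨_, Presheaf.imageSieve_mem J S.g.hom q, fun V f hf => hf⟩

end exact

variable {G : Sheaf J AddCommGrpCat.{u}}

section sub

variable (T : Tors.Torsor G)

/-- The unique `g` with `g + q = p`. -/
noncomputable def sub {U : Cᵒᵖ} (p q : T.P.obj.obj U) : G.obj.obj U :=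
  (T.free_transitive q p).exists.choose

lemma sub_spec {U : Cᵒᵖ} (p q : T.P.obj.obj U) : T.vadd (sub T p q) q = p :=
  (T.free_transitive q p).exists.choose_spec

lemma eq_sub {U : Cᵒᵖ} {p q : T.P.obj.obj U} {g : G.obj.obj U} (h : T.vadd g q = p) :
    g = sub T p q :=
  (T.free_transitive q p).unique h (sub_spec T p q)

lemma sub_add {U : Cᵒᵖ} (p q r : T.P.obj.obj U) : sub T p q + sub T q r = sub T p r :=
  eq_sub T (by rw [T.add_vadd, sub_spec, sub_spec])

lemma sub_vadd {U : Cᵒᵖ} (g : G.obj.obj U) (p : T.P.obj.obj U) :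
    sub T (T.vadd g p) p = g :=
  (eq_sub T rfl).symm

lemma map_sub' {U V : Cᵒᵖ} (f : U ⟶ V) (p q : T.P.obj.obj U) :
    G.obj.map f (sub T p q) = sub T (T.P.obj.map f p) (T.P.obj.map f q) :=
  eq_sub T (by rw [← T.map_vadd, sub_spec])

/-- The free abelian presheaf on a torsor. -/
noncomputable def freeP : Cᵒᵖ ⥤ AddCommGrpCat.{u} := T.P.obj ⋙ AddCommGrpCat.free

/-- The degree on the free abelian group. -/
noncomputable def deg (U : Cᵒᵖ) : FreeAbelianGroup (T.P.obj.obj U) →+ ℤ :=
  FreeAbelianGroup.lift (fun _ => 1)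

lemma deg_map {U V : Cᵒᵖ} (f : U ⟶ V) (x : FreeAbelianGroup (T.P.obj.obj U)) :
    deg T V ((freeP T).map f x) = deg T U x := by
  have : (deg T V).comp ((freeP T).map f).hom = deg T U := by
    apply FreeAbelianGroup.lift_ext
    intro t
    show deg T V (FreeAbelianGroup.map (T.P.obj.map f) (FreeAbelianGroup.of t)) = _
    rw [FreeAbelianGroup.map_of_apply]
    simp [deg]
  exact DFunLike.congr_fun this x

/-- Degree-zero part of the free abelian presheaf. -/
noncomputable def degZero : Cᵒᵖ ⥤ AddCommGrpCat.{u} where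
  obj U := AddCommGrpCat.of (deg T U).ker
  map {U V} f := AddCommGrpCat.ofHom
    ((((freeP T).map f).hom.comp (deg T U).ker.subtype).codRestrict (deg T V).ker
      (fun x => (deg_map T f x.1).trans x.2))
  map_id U := by
    ext x
    show ((freeP T).map (𝟙 U)) x.1 = x.1
    rw [(freeP T).map_id]
    rfl
  map_comp {U V W} f g := by
    ext x
    show ((freeP T).map (f ≫ g)) x.1 = ((freeP T).map g) ((freeP T).map f x.1)
    rw [(freeP T).map_comp]
    rfl

/-- The inclusion. -/
noncomputable def degZeroι : degZero T ⟶ freeP T where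
  app U := AddCommGrpCat.ofHom (deg T U).ker.subtype
  naturality U V f := by
    ext x
    rfl

instance : Mono (degZeroι T) := by
  haveI : ∀ U, Mono ((degZeroι T).app U) := fun U =>
    (AddCommGrpCat.mono_iff_injective _).2 fun x y h => Subtype.ext h
  exact NatTrans.mono_of_mono_app _

open Classical in
/-- A base point, if any. -/
noncomputable def base (U : Cᵒᵖ) : T.P.obj.obj U → T.P.obj.obj U :=
  fun t => if h : Nonempty (T.P.obj.obj U) then h.some else t

lemma lift_sub_eq {U : Cᵒᵖ} (x : FreeAbelianGroup (T.P.obj.obj U)) (hx : deg T U x = 0)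
    (a b : T.P.obj.obj U) :
    FreeAbelianGroup.lift (fun t => sub T t a) x =
      FreeAbelianGroup.lift (fun t => sub T t b) x := by
  have h : ∀ x : FreeAbelianGroup (T.P.obj.obj U),
      FreeAbelianGroup.lift (fun t => sub T t b) x =
        FreeAbelianGroup.lift (fun t => sub T t a) x + deg T U x • sub T a b := by
    intro x
    have : FreeAbelianGroup.lift (fun t => sub T t b) =
        FreeAbelianGroup.lift (fun t => sub T t a) +
          (zmultiplesHom _ (sub T a b)).comp (deg T U) := by
      apply FreeAbelianGroup.lift_ext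
      intro t
      simp [deg, sub_add]
    exact DFunLike.congr_fun this x
  rw [h x, hx, zero_zsmul, add_zero]

/-- `∑ nᵢ [tᵢ] ↦ ∑ nᵢ (tᵢ - t₀)`. -/
noncomputable def alphaApp (U : Cᵒᵖ) : FreeAbelianGroup (T.P.obj.obj U) →+ G.obj.obj U :=
  FreeAbelianGroup.lift (fun t => sub T t (base T U t))

lemma alphaApp_eq {U : Cᵒᵖ} (a : T.P.obj.obj U) :
    alphaApp T U = FreeAbelianGroup.lift (fun t => sub T t ((⟨a⟩ : Nonempty _).some)) := by
  apply FreeAbelianGroup.lift_ext
  intro t
  simp [alphaApp, base, show Nonempty (T.P.obj.obj U) from ⟨a⟩]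

lemma alphaApp_of_deg_zero {U : Cᵒᵖ} (a : T.P.obj.obj U)
    (x : FreeAbelianGroup (T.P.obj.obj U)) (hx : deg T U x = 0) :
    alphaApp T U x = FreeAbelianGroup.lift (fun t => sub T t a) x := by
  rw [alphaApp_eq T a]
  exact lift_sub_eq T x hx _ _

lemma alphaApp_map {U V : Cᵒᵖ} (f : U ⟶ V) (x : FreeAbelianGroup (T.P.obj.obj U))
    (hx : deg T U x = 0) :
    alphaApp T V ((freeP T).map f x) = G.obj.map f (alphaApp T U x) := by
  by_cases h : Nonempty (T.P.obj.obj U)
  · obtain ⟨a⟩ := h
    rw [alphaApp_of_deg_zero T (T.P.obj.map f a) _ ((deg_map T f x).trans hx),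
      alphaApp_of_deg_zero T a x hx]
    have : (FreeAbelianGroup.lift (fun t => sub T t (T.P.obj.map f a))).comp
        ((freeP T).map f).hom =
        (G.obj.map f).hom.comp (FreeAbelianGroup.lift (fun t => sub T t a)) := by
      apply FreeAbelianGroup.lift_ext
      intro t
      show FreeAbelianGroup.lift (fun t => sub T t (T.P.obj.map f a))
        (FreeAbelianGroup.map (T.P.obj.map f) (FreeAbelianGroup.of t)) = _
      rw [FreeAbelianGroup.map_of_apply]
      simp [map_sub' T f]
    exact DFunLike.congr_fun this x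
  · have : ∀ y : FreeAbelianGroup (T.P.obj.obj U), y = 0 := by
      haveI : IsEmpty (T.P.obj.obj U) := not_nonempty_iff.1 h
      intro y
      exact Subsingleton.elim _ _
    rw [this x]
    simp

/-- The map from the degree-zero part to `G`. -/
noncomputable def alpha : degZero T ⟶ G.obj where
  app U := AddCommGrpCat.ofHom ((alphaApp T U).comp (deg T U).ker.subtype)
  naturality U V f := by
    ext x
    exact alphaApp_map T f x.1 x.2

/-- An equivariant map from a torsor to an injective sheaf receiving `G`. -/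
lemma exists_equivariant {I : Sheaf J AddCommGrpCat.{u}} [Injective I] (ι : G ⟶ I) :
    ∃ φ : ∀ U : Cᵒᵖ, T.P.obj.obj U → I.obj.obj U,
      (∀ {U V : Cᵒᵖ} (f : U ⟶ V) (t : T.P.obj.obj U),
        I.obj.map f (φ U t) = φ V (T.P.obj.map f t)) ∧
      ∀ {U : Cᵒᵖ} (g : G.obj.obj U) (t : T.P.obj.obj U),
        φ U (T.vadd g t) = ι.hom.app U g + φ U t := by
  haveI : Injective ((sheafToPresheaf J AddCommGrpCat.{u}).obj I) :=
    Injective.injective_of_adjoint (sheafificationAdjunction J AddCommGrpCat.{u}) I
  let β : freeP T ⟶ (sheafToPresheaf J AddCommGrpCat.{u}).obj I :=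
    Injective.factorThru (alpha T ≫ ι.hom) (degZeroι T)
  have hβ : degZeroι T ≫ β = alpha T ≫ ι.hom := Injective.comp_factorThru _ _
  refine ⟨fun U t => β.app U (FreeAbelianGroup.of t), fun {U V} f t => ?_, fun {U} g t => ?_⟩
  · refine (NatTrans.naturality_apply β f (FreeAbelianGroup.of t)).symm.trans ?_
    exact congrArg (β.app V) (FreeAbelianGroup.map_of_apply t)
  · let x : (deg T U).ker := ⟨FreeAbelianGroup.of (T.vadd g t) - FreeAbelianGroup.of t, by
      simp [AddMonoidHom.mem_ker, deg]⟩
    have h : β.app U (FreeAbelianGroup.of (T.vadd g t) - FreeAbelianGroup.of t) =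
        ι.hom.app U (alphaApp T U x.1) :=
      ConcreteCategory.congr_hom (NatTrans.congr_app hβ U) x
    have hx : alphaApp T U x.1 = g := by
      rw [alphaApp_of_deg_zero T t x.1 x.2]
      simp only [x, map_sub, FreeAbelianGroup.lift_apply_of, sub_vadd]
      rw [show sub T t t = 0 from (eq_sub T (T.zero_vadd t)).symm, sub_zero]
    rw [hx] at h
    erw [map_sub] at h
    exact eq_add_of_sub_eq h

end sub

/-- The torsor of lifts of a global section of `S.X₃`. -/
noncomputable def liftTorsor {S : ShortComplex (Sheaf J AddCommGrpCat.{u})} (hS : S.ShortExact)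
    (q : ∀ U : C, S.X₃.obj.obj (op U))
    (hq : ∀ ⦃U V : C⦄ (f : V ⟶ U), S.X₃.obj.map f.op (q U) = q V) :
    Tors.Torsor S.X₁ :=
  let P : Subfunctor (S.X₂.obj ⋙ forget AddCommGrpCat.{u}) :=
    { obj := fun U => {i | S.g.hom.app U i = q U.unop}
      map := fun {U V} f i hi => by
        show S.g.hom.app V (S.X₂.obj.map f i) = q V.unop
        rw [app_map, show S.g.hom.app U i = q U.unop from hi]
        exact hq f.unop }
  have hP : Presieve.IsSheaf J P.toFunctor := by
    rw [P.isSheaf_iff (isSheaf_sect S.X₂)]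
    intro U i hi
    refine sect_ext S.X₃ hi fun V f hf => ?_
    have h : S.g.hom.app (op V) (S.X₂.obj.map f.op i) = q V := hf
    rw [app_map] at h
    rw [hq f]
    exact h
  { P := ⟨P.toFunctor, (isSheaf_iff_isSheaf_of_type J _).2 hP⟩
    vadd := fun {U} g i => ⟨S.f.hom.app U g + i.1, by
      show S.g.hom.app U (S.f.hom.app U g + i.1) = q U.unop
      rw [map_add, show S.g.hom.app U i.1 = q U.unop from i.2]
      have : S.g.hom.app U (S.f.hom.app U g) = 0 :=
        ConcreteCategory.congr_hom (NatTrans.congr_app (congrArg (fun e => e.hom) S.zero) U) g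
      rw [this, zero_add]⟩
    zero_vadd := fun {U} i => Subtype.ext (by
      show S.f.hom.app U 0 + i.1 = i.1
      rw [map_zero, zero_add])
    add_vadd := fun {U} g h i => Subtype.ext (by
      show S.f.hom.app U (g + h) + i.1 = S.f.hom.app U g + (S.f.hom.app U h + i.1)
      rw [map_add, add_assoc])
    map_vadd := fun {U V} f g i => Subtype.ext (by
      show S.X₂.obj.map f (S.f.hom.app U g + i.1) =
        S.f.hom.app V (S.X₁.obj.map f g) + S.X₂.obj.map f i.1
      rw [map_add, app_map])
    free_transitive := fun {U} i j => by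
      obtain ⟨g, hg⟩ := exists_preimage hS (j.1 - i.1) (by
        rw [map_sub, show S.g.hom.app U i.1 = q U.unop from i.2,
          show S.g.hom.app U j.1 = q U.unop from j.2, sub_self])
      refine ⟨g, Subtype.ext (by show S.f.hom.app U g + i.1 = j.1; rw [hg, sub_add_cancel]), ?_⟩
      intro g' hg'
      have h' : S.f.hom.app U g' + i.1 = j.1 := congrArg Subtype.val hg'
      exact app_injective hS U (by rw [hg, eq_sub_of_add_eq h'])
    locally_nonempty := fun U => by
      obtain ⟨T, hT, hl⟩ := locally_lift hS (q U)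
      refine ⟨T, hT, fun V f hf => ?_⟩
      obtain ⟨i, hi⟩ := hl f hf
      exact ⟨⟨i, hi.trans (hq f)⟩⟩ }

open Abelian in
/-- `H¹(G) = 0` iff every torsor has a section. -/
theorem main (G : Sheaf J AddCommGrpCat.{u}) :
    Subsingleton (Sheaf.H.{u} G 1) ↔ ∀ T : Tors.Torsor G, T.HasSection := by
  let p : InjectivePresentation G := (EnoughInjectives.presentation G).some
  let S : ShortComplex (Sheaf J AddCommGrpCat.{u}) :=
    ShortComplex.mk p.f (cokernel.π p.f) (cokernel.condition p.f)
  have hS : S.ShortExact :=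
    { exact := ShortComplex.exact_cokernel _
      mono_f := p.mono
      epi_g := inferInstanceAs (Epi (cokernel.π p.f)) }
  haveI : Injective S.X₂ := p.injective
  constructor
  · intro hH T
    obtain ⟨φ, hφn, hφg⟩ := exists_equivariant T S.f
    -- the global section of the cokernel
    obtain ⟨q, hqR, hq⟩ := exists_family (isSheaf_sect S.X₃)
      (fun U x => ∀ (V : C) (f : V ⟶ U) (t : T.P.obj.obj (op V)),
        S.X₃.obj.map f.op x = S.g.hom.app (op V) (φ _ t))
      (fun U V f x hx W g t => by
        refine (map_map S.X₃ f g x).trans ?_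
        exact hx W (g ≫ f) t)
      (fun U x y hx hy => by
        obtain ⟨R, hR, hne⟩ := T.locally_nonempty U
        refine sect_ext S.X₃ hR fun V f hf => ?_
        obtain ⟨t⟩ := hne f hf
        rw [hx V f t, hy V f t])
      (fun U x R hR hx V f t => by
        refine sect_ext S.X₃ (J.pullback_stable f hR) fun W g hg => ?_
        have h := hx (g ≫ f) hg W (𝟙 W) (T.P.obj.map g.op t)
        rw [← app_map, hφn, map_map]
        refine Eq.trans ?_ h
        exact ((ConcreteCategory.congr_hom (S.X₃.obj.map_id (op W)) _).trans rfl).symm)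
      (fun U => by
        obtain ⟨R, hR, hne⟩ := T.locally_nonempty U
        refine ⟨R, hR, fun V f hf => ?_⟩
        obtain ⟨t₀⟩ := hne f hf
        refine ⟨S.g.hom.app (op V) (φ _ t₀), fun W g t => ?_⟩
        show S.X₃.obj.map g.op (S.g.hom.app (op V) (φ _ t₀)) = S.g.hom.app (op W) (φ _ t)
        rw [← app_map, hφn]
        obtain ⟨a, ha, -⟩ := T.free_transitive (T.P.obj.map g.op t₀) t
        rw [← ha, hφg, map_add]
        have : S.g.hom.app (op W) (S.f.hom.app (op W) a) = 0 :=
          ConcreteCategory.congr_hom (NatTrans.congr_app (congrArg (fun e => e.hom) S.zero) _) a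
        rw [this, zero_add])
    have hq' : ∀ (U : C) (t : T.P.obj.obj (op U)), q U = S.g.hom.app (op U) (φ _ t) := by
      intro U t
      refine Eq.trans ?_ (hqR U U (𝟙 U) t)
      exact ((ConcreteCategory.congr_hom (S.X₃.obj.map_id (op U)) _).trans rfl).symm
    -- lift it to the injective
    obtain ⟨x₂, hx₂⟩ := Ext.covariant_sequence_exact₃ _ hS (Ext.mk₀ (ofFamily q hq))
      (rfl : 0 + 1 = 1) (hH.elim _ _)
    obtain ⟨ψ, rfl⟩ := (Ext.mk₀_bijective _ _).2 x₂
    rw [Ext.mk₀_comp_mk₀] at hx₂
    have hψ : ∀ U, S.g.hom.app (op U) (family ψ U) = q U := fun U => by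
      rw [← family_comp, (Ext.mk₀_bijective _ _).1 hx₂, family_ofFamily]
    obtain ⟨pt, -, hpt⟩ := exists_family ((isSheaf_iff_isSheaf_of_type J _).1 T.P.property)
      (fun U t => φ (op U) t = family ψ U)
      (fun U V f t ht => by rw [← hφn, ht, family_map])
      (fun U t t' ht ht' => by
        obtain ⟨a, ha, -⟩ := T.free_transitive t t'
        have h : S.f.hom.app (op U) a = S.f.hom.app (op U) 0 := by
          rw [map_zero]
          have := hφg a t
          rw [ha, ht', ht] at this
          exact left_eq_add.1 (this.trans (add_comm _ _))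
        rw [← ha, app_injective hS _ h, T.zero_vadd])
      (fun U t R hR ht => by
        refine sect_ext S.X₂ hR fun V f hf => ?_
        rw [hφn, family_map]
        exact ht f hf)
      (fun U => by
        obtain ⟨R, hR, hne⟩ := T.locally_nonempty U
        refine ⟨R, hR, fun V f hf => ?_⟩
        obtain ⟨t⟩ := hne f hf
        obtain ⟨a, ha⟩ := exists_preimage hS (family ψ V - φ _ t) (by
          rw [map_sub, hψ, ← hq' V t, sub_self])
        exact ⟨T.vadd a t, by rw [hφg, ha, sub_add_cancel]⟩)
    exact ⟨⟨{ app := fun U => TypeCat.ofHom fun _ => pt U.unop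
              naturality := fun U V f => by
                ext a
                exact (hpt f.unop).symm }⟩⟩
  · intro hT
    refine subsingleton_of_forall_eq 0 fun x => ?_
    obtain ⟨x₃, rfl⟩ := Ext.covariant_sequence_exact₁ _ hS x
      (Ext.eq_zero_of_injective _) (rfl : 0 + 1 = 1)
    obtain ⟨a, rfl⟩ := (Ext.mk₀_bijective _ _).2 x₃
    let Tq := liftTorsor hS (family a) (family_map a)
    obtain ⟨s⟩ := hT Tq
    let pr : ∀ U : Cᵒᵖ, Tq.P.obj.obj U → S.X₂.obj.obj U := fun U i => i.1
    let one : Sheaf J (Type u) :=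
      ⟨(Functor.const Cᵒᵖ).obj PUnit.{u + 1}, (isSheaf_iff_isSheaf_of_type J _).2
        (fun X R _ => fun x _ => ⟨PUnit.unit, fun _ _ _ => rfl, fun _ _ => rfl⟩)⟩
    let σ : one ⟶ Tq.P := terminal.from one ≫ s
    let b := ofFamily (fun U => pr (op U) (σ.hom.app (op U) PUnit.unit)) (fun U V f => by
      have key : ∀ y : Tq.P.obj.obj (op U),
          S.X₂.obj.map f.op (pr (op U) y) = pr (op V) (Tq.P.obj.map f.op y) := fun _ => rfl
      rw [key]
      refine congrArg (pr (op V)) ?_
      refine (NatTrans.naturality_apply σ.hom f.op _).symm.trans ?_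
      rfl)
    have hab : b ≫ S.g = a := by
      refine hom_ext_family _ _ fun U => ?_
      rw [family_comp, family_ofFamily]
      exact (σ.hom.app (op U) PUnit.unit).2
    rw [← hab, ← Ext.mk₀_comp_mk₀, Ext.comp_assoc_of_second_deg_zero, hS.comp_extClass,
      Ext.comp_zero]

end Groth.Agent.TorsH1
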